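import Cfsg.Agent.H455.OreM.Cert19
import Cfsg.Agent.H606.OreM.Ok
import Cfsg.Agent.H606.OreM.ZB

/-!
# The Monster: the degrees with `χ(1) ≡ ± 1 (41)`, `χ(1) ≡ ± 1, ± 4 (19)` are at least 280000000 (helper455, for `four_M`)

`Loc` : the orders of the centralizers used; `main` : the bound.
-/

set_option autoImplicit false
set_option maxRecDepth 100000

open Cfsg Subgroup

namespace Cfsg.Agent.H455.OreM.Deg19

open Cfsg.Agent.BpSpor.MBigModel
open Cfsg.Agent.LThreeB.Row (TA)
open Cfsg.Agent.Characters.Core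
open Cfsg.Agent.H606.OreM Cfsg.Agent.H606.OreM.Num

/-- a column: the orders of `C(x)` and of `C(x) ∩ C(t)`, `t ∈ 2A` -/
structure Col (r k c : ℕ) : Prop where
  hc : ∀ x : MG, orderOf x = r → Nat.card (centralizer ({x} : Set MG)) = r * k
  ht : ∀ x t : MG, orderOf x = r → TA t → t * x = x * t →
    Nat.card (centralizer ({x} : Set MG) ⊓ centralizer ({t} : Set MG) : Subgroup MG) = r * c

/-- the local facts -/
structure Loc : Prop where
  c41 : ∀ x : MG, orderOf x = 41 → Nat.card (centralizer ({x} : Set MG)) = 41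
  c59 : ∀ x : MG, orderOf x = 59 → Nat.card (centralizer ({x} : Set MG)) = 59
  c71 : ∀ x : MG, orderOf x = 71 → Nat.card (centralizer ({x} : Set MG)) = 71
  l47 : Col 47 2 2
  l31 : Col 31 6 2
  l23 : Col 23 24 4
  l19 : Col 19 60 4
  l17 : Col 17 168 8

theorem exists_order {r : ℕ} (hr : r.Prime) (hd : r ∣ 808017424794512875886459904961710757005754368000000000) :
    ∃ x : MG, orderOf x = r := by
  have hF : Fact r.Prime := ⟨hr⟩
  exact exists_prime_orderOf_dvd_card' (G := MG) r (by rw [card_M]; exact hd)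

theorem exists_ta : ∃ t : MG, TA t := by
  obtain ⟨y, -, -, h⟩ := exists_two
  exact ⟨y, h⟩

theorem tabs_ne : ∀ x ∈ tabs, ∀ a ∈ x.2, 0 ∉ a.1 := by decide +kernel

theorem col47 : colOK 47 2 2 23 2 1 tab47 = true := by decide +kernel

theorem col31 : colOK 31 6 2 15 2 3 tab31 = true := by decide +kernel

theorem col23 : colOK 23 24 4 11 2 6 tab23 = true := by decide +kernel

theorem col19 : colOK 19 60 4 18 1 15 tab19 = true := by decide +kernel

theorem col17 : colOK 17 168 8 16 1 21 tab17 = true := by decide +kernel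

theorem Col.okX {r k c e f s : ℕ} (h : Col r k c) (hr : r.Prime)
    (hd : r ∣ 808017424794512875886459904961710757005754368000000000) {T : List (List ℕ × ℕ)}
    (hcol : colOK r k c e f s T = true) (χ : IrrCharacter MG) {t : MG} (ht : TA t) {X : ℕ}
    (hX : (χ : MG → ℂ) t = (((charDegree (χ : MG → ℂ) : ℤ) - 4096 * X : ℤ) : ℂ)) :
    OkX r T (charDegree (χ : MG → ℂ)) X :=
  Cfsg.Agent.H606.OreM.okX hr hcol (exists_order hr hd) h.hc h.ht χ ht hX

/-- the numbers of a character -/
theorem exists_cand (L : Loc) (χ : IrrCharacter MG) :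
    ∃ b c e : ℕ, Cand cA cB tabs (charDegree (χ : MG → ℂ)) b c e := by
  obtain ⟨t, ht⟩ := exists_ta
  obtain ⟨a, b, c, e, h1, h2, h3⟩ := values χ ht
  set d := charDegree (χ : MG → ℂ) with hd
  have hd0 : 0 < d := by
    obtain ⟨n, hn0, hn⟩ := isIrr_apply_one χ.2
    rw [hd]
    unfold charDegree
    rw [hn]
    simpa using hn0
  have hX : (χ : MG → ℂ) t = (((d : ℤ) - 4096 * ((47 * b + 4096 * c + 4049 * e : ℕ) : ℤ) : ℤ) : ℂ) := by
    rw [h2, h1]
    congr 1
    push_cast
    ring
  have hY : (χ : MG → ℂ) zz = (((d : ℤ) - 65536 * ((3 * b + 256 * c + 253 * e : ℕ) : ℤ) : ℤ) : ℂ) := by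
    rw [h3, h1]
    congr 1
    push_cast
    ring
  have hZ := zbound L.c41 χ hY
  rw [← hd] at hZ
  obtain ⟨wA, -, hwA⟩ := omega_int χ t hX
  obtain ⟨wB, -, hwB⟩ := omega_int χ zz hY
  rw [index_A ht, ← hd] at hwA
  rw [index_B, ← hd] at hwB
  have hA : ((d : ℕ) : ℤ) ∣ ((cA * (47 * b + 4096 * c + 4049 * e) : ℕ) : ℤ) := by
    refine ⟨nA - wA, ?_⟩
    unfold cA
    unfold nA at hwA ⊢
    push_cast at hwA ⊢
    linear_combination hwA
  have hB : ((d : ℕ) : ℤ) ∣ ((cB * (3 * b + 256 * c + 253 * e) : ℕ) : ℤ) := by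
    refine ⟨nB - wB, ?_⟩
    unfold cB
    unfold nB at hwB ⊢
    push_cast at hwB ⊢
    linear_combination hwB
  refine ⟨b, c, e, ⟨hd0, by omega, by exact_mod_cast hA, by exact_mod_cast hB, ?_, ?_, ?_⟩⟩
  · intro x hx
    simp only [tabs, List.mem_cons, List.not_mem_nil, or_false] at hx
    rcases hx with rfl | rfl | rfl | rfl | rfl
    · exact L.l47.okX (by norm_num) (by norm_num) col47 χ ht hX
    · exact L.l31.okX (by norm_num) (by norm_num) col31 χ ht hX
    · exact L.l23.okX (by norm_num) (by norm_num) col23 χ ht hX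
    · exact L.l19.okX (by norm_num) (by norm_num) col19 χ ht hX
    · exact L.l17.okX (by norm_num) (by norm_num) col17 χ ht hX
  · have h4 := neg_abs_le ((d : ℤ) - 65536 * ((3 * b + 256 * c + 253 * e : ℕ) : ℤ))
    have h5 : 2686976 * ((3 * b + 256 * c + 253 * e : ℕ) : ℤ) ≤ 42 * d + 257 := by linarith
    exact_mod_cast h5
  · have h4 := le_abs_self ((d : ℤ) - 65536 * ((3 * b + 256 * c + 253 * e : ℕ) : ℤ))
    have h5 : 40 * (d : ℤ) ≤ 2686976 * ((3 * b + 256 * c + 253 * e : ℕ) : ℤ) + 257 := by linarith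
    exact_mod_cast h5

/-- the test fails at a degree -/
theorem testD_deg (L : Loc) (χ : IrrCharacter MG) : testD cA cB tabs (charDegree (χ : MG → ℂ)) = false := by
  obtain ⟨b, c, e, h⟩ := exists_cand L χ
  exact testD_false tabs_ne h

/-- the residues modulo 71 -/
theorem res71 (L : Loc) (χ : IrrCharacter MG) : [0, 1, 70, 35, 36].contains (charDegree (χ : MG → ℂ) % 71) = true := by
  obtain ⟨x, hx⟩ := exists_order (r := 71) (by norm_num) (by norm_num)
  have h := res_self (r := 71) (e := 35) (f := 2) (by norm_num) (by decide +kernel) hx (L.c71 x hx) χ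
  rcases h with h | h | h | h | h <;> rw [h] <;> rfl

/-- the residues modulo 59 -/
theorem res59 (L : Loc) (χ : IrrCharacter MG) : [0, 1, 58, 29, 30].contains (charDegree (χ : MG → ℂ) % 59) = true := by
  obtain ⟨x, hx⟩ := exists_order (r := 59) (by norm_num) (by norm_num)
  have h := res_self (r := 59) (e := 29) (f := 2) (by norm_num) (by decide +kernel) hx (L.c59 x hx) χ
  rcases h with h | h | h | h | h <;> rw [h] <;> rfl

/-- **The degrees with the residues `± 1` modulo 41, `± 1, ± 4` modulo 19.** -/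
theorem main (L : Loc) (χ : IrrCharacter MG) (hχ : (χ : MG → ℂ) ≠ 1) (h41 : charDegree (χ : MG → ℂ) % 41 ∈ [1, 40])
    (h19 : charDegree (χ : MG → ℂ) % 19 ∈ [1, 4, 15, 18]) : 280000000 ≤ charDegree (χ : MG → ℂ) := by
  by_contra hlt
  push Not at hlt
  have hd : charDegree (χ : MG → ℂ) ∣ 808017424794512875886459904961710757005754368000000000 := by
    rw [← card_M]
    exact Blocks.Knorr.charDegree_dvd χ.2
  have h := Cert19.main hd (min_deg χ hχ) hlt (List.contains_iff_mem.2 h41) (List.contains_iff_mem.2 h19)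
    (res71 L χ) (res59 L χ)
  rw [testD_deg L χ] at h
  exact absurd h (by decide)

end Cfsg.Agent.H455.OreM.Deg19
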