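import Cfsg.Agent.H455.OreM.Deg19
import Cfsg.Agent.H241.Deg.MonFinal
import Cfsg.Agent.H58.Cop.MSc
import Cfsg.Agent.H436.MonLoc
import Cfsg.Agent.H715.Mon.Inf
import Cfsg.Agent.H529.MSev.L17
import Cfsg.Agent.H562.OreM.Loc31

/-!
# The local facts of the Monster used in the sieves, from `Base` (helper455)

`loc : Base → Loc`; `deg_M19` : the bound for the degrees.
-/

set_option autoImplicit false
set_option maxRecDepth 100000

open Cfsg Subgroup

namespace Cfsg.Agent.H455.OreM.Deg19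

open Cfsg.Agent.BpSpor.MBigModel
open Cfsg.Agent.LThreeB.Row (TA)
open Cfsg.Agent.H940.Eng (Base)

/-- `|C(x) ∩ C(t)| = 94` for `x` of order 47 -/
theorem inf47 {x t : MG} (hc : Nat.card (centralizer ({x} : Set MG)) = 47 * 2) (hx : orderOf x = 47) (ht : orderOf t = 2)
    (h : t * x = x * t) : Nat.card (centralizer ({x} : Set MG) ⊓ centralizer ({t} : Set MG) : Subgroup MG) = 47 * 2 := by
  have hfin := finite
  set H : Subgroup MG := centralizer ({x} : Set MG) ⊓ centralizer ({t} : Set MG) with hH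
  have hdvd : Nat.card H ∣ 47 * 2 := by rw [← hc]; exact card_dvd_of_le inf_le_left
  have hxH : x ∈ H := ⟨mem_centralizer_singleton_iff.2 rfl, mem_centralizer_singleton_iff.2 h.symm⟩
  have htH : t ∈ H := ⟨mem_centralizer_singleton_iff.2 h, mem_centralizer_singleton_iff.2 rfl⟩
  have d47 : 47 ∣ Nat.card H := by
    rw [← hx, ← Subgroup.orderOf_mk x hxH]; exact orderOf_dvd_natCard _
  have d2 : 2 ∣ Nat.card H := by
    rw [← ht, ← Subgroup.orderOf_mk t htH]; exact orderOf_dvd_natCard _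
  exact Nat.dvd_antisymm hdvd (Nat.Coprime.mul_dvd_of_dvd_of_dvd (by norm_num) d47 d2)

/-- **The local facts.** -/
theorem loc (B : Base) : Loc := by
  have h3 := Cfsg.Agent.H715.Mon.Grp.sThree B
  have hK := Cfsg.Agent.H438.Fpr.Mon.allKnown B
  have c47 : ∀ x : MG, orderOf x = 47 → Nat.card (centralizer ({x} : Set MG)) = 47 * 2 :=
    fun x hx => Cfsg.Agent.H436.MonLoc.card47 hK hx
  exact {
    c41 := fun x hx => Cfsg.Agent.H241.Deg.Mon.card41 B hx
    c59 := fun x hx => (Cfsg.Agent.H58.Cop.M.norm_fiftynine hK hx).1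
    c71 := fun x hx => (Cfsg.Agent.H241.Deg.Mon.norm71 B hx).1
    l47 := ⟨c47, fun x t hx ht h => inf47 (c47 x hx) hx (H58.Cop.MLow.orderOf_ta ht) h⟩
    l31 := ⟨fun x hx => Cfsg.Agent.H562.OreM.Loc31.cardC h3 hx,
      fun x t hx ht h => Cfsg.Agent.H562.OreM.Loc31.cardCT h3 hx ht h⟩
    l23 := ⟨fun x hx => (Cfsg.Agent.H715.Mon.Exact.card23 h3 hx).trans (by norm_num), fun x t hx ht h =>
      (Cfsg.Agent.H715.Mon.Exact.main23 h3 hx (H58.Cop.MLow.orderOf_ta ht) h (card_cent_t ht)).2.trans (by norm_num)⟩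
    l19 := ⟨fun x hx => (Cfsg.Agent.H715.Mon.Exact.card19' h3 hx).trans (by norm_num),
      fun x t hx ht h => (Cfsg.Agent.H715.Mon.Exact.inf19 h3 hx (H58.Cop.MLow.orderOf_ta ht) h).trans (by norm_num)⟩
    l17 := ⟨fun x hx => (Cfsg.Agent.H715.Mon.Exact.card17 h3 hx).trans (by norm_num),
      fun x t hx ht h => (Cfsg.Agent.H529.MSev.L17.inf17 hx (H58.Cop.MLow.orderOf_ta ht) h).trans (by norm_num)⟩ }

/-- **The degrees.** -/
theorem deg_M19 (B : Base) (χ : IrrCharacter MG) (hχ : (χ : MG → ℂ) ≠ 1) (h41 : charDegree (χ : MG → ℂ) % 41 ∈ [1, 40])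
    (h19 : charDegree (χ : MG → ℂ) % 19 ∈ [1, 4, 15, 18]) : 280000000 ≤ charDegree (χ : MG → ℂ) :=
  main (loc B) χ hχ h41 h19

end Cfsg.Agent.H455.OreM.Deg19
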