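import Cfsg.Agent.H455.OreM.Enum
import Cfsg.Agent.H606.OreM.Tabs
import Mathlib.Tactic.NormNum.Prime

/-!
# The divisors of the order of the Monster below 280000000: the certificate for `deg_M19` (helper455)
-/

set_option autoImplicit false

namespace Cfsg.Agent.H455.OreM.Cert19

open Cfsg.Agent.H606.OreM.Num (testD cA cB tabs)
open Cfsg.Agent.H455.OreM.Enum

/-- the primes (without 19, 41) -/
def L : List (ℕ × ℕ) := [(2, 46), (3, 20), (5, 9), (7, 6), (11, 2), (13, 3), (17, 1), (23, 1), (29, 1), (31, 1),
  (47, 1), (59, 1), (71, 1)]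

theorem L_prime : ∀ pa ∈ L, pa.1.Prime := by
  intro pa hpa
  simp only [L, List.mem_cons, List.not_mem_nil, or_false] at hpa
  rcases hpa with rfl | rfl | rfl | rfl | rfl | rfl | rfl | rfl | rfl | rfl | rfl | rfl | rfl <;> norm_num

theorem L_prod : prod L * (19 * 41) = 808017424794512875886459904961710757005754368000000000 := by
  norm_num [prod, L]

/-- the test -/
def tst (d : ℕ) : Bool :=
  bif bit 1099511627778 41 d then
  bif bit 294930 19 d then
  bif Nat.ble d 196882 then true else
  bif bit 1180591620820490518531 71 d then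
  bif bit 288230377762324483 59 d then testD cA cB tabs d
  else true else true else true else true

/-- the odd primes of `L` -/
def Lo : List (ℕ × ℕ) := [(3, 20), (5, 9), (7, 6), (11, 2), (13, 3), (17, 1), (23, 1), (29, 1), (31, 1),
  (47, 1), (59, 1), (71, 1)]

theorem up_of {D : ℕ} {f g : ℕ → Bool} {p : ℕ} : ∀ (a d : ℕ), (∀ i ≤ a, d * p ^ i < D → g (d * p ^ i) = true) →
    (∀ i, 1 ≤ i → i ≤ a → d * p ^ i < D → f (d * p ^ i) = true) → d < D → up D f g p a d = true
  | 0, d, h1, _, hd => by
    have := h1 0 le_rfl (by rwa [pow_zero, mul_one])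
    rwa [pow_zero, mul_one] at this
  | a + 1, d, h1, h2, hd => by
    rw [up, force_eq]
    cases hD : Nat.ble D (d * p) with
    | true => rfl
    | false =>
      have h3 : d * p < D := by
        by_contra hcon
        rw [Nat.ble_eq_true_of_le (not_lt.1 hcon)] at hD
        exact absurd hD (by decide)
      have e : ∀ i, d * p * p ^ i = d * p ^ (i + 1) := fun i => by rw [pow_succ]; ring
      have h4 := h1 0 (Nat.zero_le _) (by rwa [pow_zero, mul_one])
      rw [pow_zero, mul_one] at h4
      have h5 := h2 1 le_rfl (by omega) (by rwa [pow_one])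
      rw [pow_one] at h5
      have h6 := up_of (g := g) (f := f) a (d * p) (fun i hi h => by
        rw [e] at h ⊢
        exact h1 (i + 1) (by omega) h) (fun i hi hi' h => by
        rw [e] at h ⊢
        exact h2 (i + 1) (by omega) (by omega) h) h3
      rw [cond_false, h5, h6, h4]
      rfl

/-- the test for the divisors with 2-part `d` -/
def gg (d : ℕ) : Bool := tst d && go 280000000 tst Lo d

theorem check0 : go 280000000 tst Lo 1 = true := by decide +kernel

theorem check1 : gg 2 = true := by decide +kernel

theorem check2 : gg 4 = true := by decide +kernel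

theorem check3 : (gg 8 && gg 16) = true := by decide +kernel

theorem check5 : (gg 32 && gg 64 && gg 128) = true := by decide +kernel

theorem check8 : (gg 256 && gg 512 && gg 1024 && gg 2048) = true := by decide +kernel

theorem check12 : (gg 4096 && gg 8192 && gg 16384 && gg 32768 && gg 65536 && gg 131072 && gg 262144 && gg 524288 &&
    gg 1048576 && gg 2097152 && gg 4194304 && gg 8388608 && gg 16777216 && gg 33554432 && gg 67108864 && gg 134217728 &&
    gg 268435456) = true := by decide +kernel

theorem gg_all : ∀ i, 1 ≤ i → 2 ^ i < 280000000 → gg (2 ^ i) = true := by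
  intro i hi h
  have h29 : i < 29 := by
    by_contra hcon
    have : 2 ^ 29 ≤ 2 ^ i := Nat.pow_le_pow_right (by norm_num) (not_lt.1 hcon)
    omega
  have c3 := check3
  have c5 := check5
  have c8 := check8
  have c12 := check12
  simp only [Bool.and_eq_true] at c3 c5 c8 c12
  clear h
  interval_cases i
  · exact check1
  · exact check2
  · exact c3.1
  · exact c3.2
  · exact c5.1.1
  · exact c5.1.2
  · exact c5.2
  · exact c8.1.1.1
  · exact c8.1.1.2
  · exact c8.1.2
  · exact c8.2
  · exact c12.1.1.1.1.1.1.1.1.1.1.1.1.1.1.1.1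
  · exact c12.1.1.1.1.1.1.1.1.1.1.1.1.1.1.1.2
  · exact c12.1.1.1.1.1.1.1.1.1.1.1.1.1.1.2
  · exact c12.1.1.1.1.1.1.1.1.1.1.1.1.1.2
  · exact c12.1.1.1.1.1.1.1.1.1.1.1.1.2
  · exact c12.1.1.1.1.1.1.1.1.1.1.1.2
  · exact c12.1.1.1.1.1.1.1.1.1.1.2
  · exact c12.1.1.1.1.1.1.1.1.1.2
  · exact c12.1.1.1.1.1.1.1.1.2
  · exact c12.1.1.1.1.1.1.1.2
  · exact c12.1.1.1.1.1.1.2
  · exact c12.1.1.1.1.1.2
  · exact c12.1.1.1.1.2
  · exact c12.1.1.1.2
  · exact c12.1.1.2
  · exact c12.1.2
  · exact c12.2

theorem check : go 280000000 tst L 1 = true := by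
  show up 280000000 tst (go 280000000 tst Lo) 2 46 1 = true
  apply up_of
  · intro i _ h
    rw [one_mul] at h ⊢
    rcases Nat.eq_zero_or_pos i with rfl | hi
    · exact check0
    · have := gg_all i hi h
      rw [gg, Bool.and_eq_true] at this
      exact this.2
  · intro i hi _ h
    rw [one_mul] at h ⊢
    have := gg_all i hi h
    rw [gg, Bool.and_eq_true] at this
    exact this.1
  · norm_num

theorem main {d : ℕ} (hd : d ∣ 808017424794512875886459904961710757005754368000000000) (h1 : 196883 ≤ d) (h2 : d < 280000000)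
    (h41 : [1, 40].contains (d % 41) = true) (h19 : [1, 4, 15, 18].contains (d % 19) = true)
    (h71 : [0, 1, 70, 35, 36].contains (d % 71) = true) (h59 : [0, 1, 58, 29, 30].contains (d % 59) = true) :
    testD cA cB tabs d = true := by
  have p41 : Nat.Prime 41 := by norm_num
  have p19 : Nat.Prime 19 := by norm_num
  have c41 : Nat.Coprime d 41 := by
    rw [Nat.coprime_comm, p41.coprime_iff_not_dvd]
    intro h
    rw [Nat.mod_eq_zero_of_dvd h] at h41
    exact absurd h41 (by decide)
  have c19 : Nat.Coprime d 19 := by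
    rw [Nat.coprime_comm, p19.coprime_iff_not_dvd]
    intro h
    rw [Nat.mod_eq_zero_of_dvd h] at h19
    exact absurd h19 (by decide)
  have hd' : d ∣ prod L := by
    rw [← L_prod] at hd
    exact (Nat.Coprime.mul_right c19 c41).dvd_of_dvd_mul_right hd
  have h := go_spec (q := 0) (by decide) L_prime check d hd' (by omega) (by rwa [one_mul])
  have h3 : Nat.ble d 196882 = false := by
    rw [Bool.eq_false_iff]; intro h; have := Nat.le_of_ble_eq_true h; omega
  rw [one_mul, tst, h3, bit_of (wl := [1, 40]) (by norm_num) (by decide +kernel) h41,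
    bit_of (wl := [1, 4, 15, 18]) (by norm_num) (by decide +kernel) h19,
    bit_of (wl := [0, 1, 70, 35, 36]) (by norm_num) (by decide +kernel) h71,
    bit_of (wl := [0, 1, 58, 29, 30]) (by norm_num) (by decide +kernel) h59] at h
  exact h

end Cfsg.Agent.H455.OreM.Cert19
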