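import Mathlib.Data.Nat.Prime.Basic
import Mathlib.Data.Nat.GCD.Basic
import Mathlib.Tactic.Ring
import Mathlib.Tactic.Linarith

/-!
# Enumeration of the divisors `< D` of a number, for kernel checks (helper455)

`go D f L 1 = true` : `f` holds at all divisors `m ≠ 1`, `m < D`, of `prod L`; the primes of `L` are in increasing order
(a branch is left at the first prime with `d p ≥ D`); every product is evaluated before it is used (`force`):
about 0.5 ms for each divisor.
-/

set_option autoImplicit false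

namespace Cfsg.Agent.H455.OreM.Enum

/-- evaluation of the argument to a literal -/
def force (n : ℕ) (f : ℕ → Bool) : Bool := Nat.casesOn n (f 0) (fun k => f (k + 1))

theorem force_eq (n : ℕ) (f : ℕ → Bool) : force n f = f n := by cases n <;> rfl

def up (D : ℕ) (f g : ℕ → Bool) (p : ℕ) : ℕ → ℕ → Bool
  | 0, d => g d
  | a + 1, d => force (d * p) fun d' => bif Nat.ble D d' then true else f d' && up D f g p a d' && g d

def go (D : ℕ) (f : ℕ → Bool) : List (ℕ × ℕ) → ℕ → Bool
  | [], _ => true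
  | (p, a) :: L, d => up D f (go D f L) p a d

def prod : List (ℕ × ℕ) → ℕ
  | [] => 1
  | (p, a) :: L => p ^ a * prod L

/-- the primes, in increasing order, greater than `q` -/
def sorted : ℕ → List (ℕ × ℕ) → Bool
  | _, [] => true
  | q, (p, _) :: L => Nat.ble (q + 1) p && sorted p L

theorem up_spec {D : ℕ} {f g : ℕ → Bool} {p F : ℕ} (hp : 0 < p)
    (hg : ∀ d, g d = true → ∀ y, y ∣ F → y ≠ 1 → d * y < D → f (d * y) = true)
    (hF : ∀ y, y ∣ F → y ≠ 1 → p ≤ y) (hF0 : 0 < F) : ∀ (a d : ℕ), up D f g p a d = true → ∀ i, i ≤ a → ∀ y, y ∣ F →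
      p ^ i * y ≠ 1 → d * (p ^ i * y) < D → f (d * (p ^ i * y)) = true := by
  intro a
  induction a with
  | zero =>
    intro d h i hi y hy h1 h2
    obtain rfl : i = 0 := by omega
    rw [pow_zero, one_mul] at h1 h2 ⊢
    exact hg d h y hy h1 h2
  | succ a ih =>
    intro d h i hi y hy h1 h2
    rw [up, force_eq] at h
    have hy0 : 0 < y := Nat.pos_of_dvd_of_pos hy hF0
    cases hD : Nat.ble D (d * p) with
    | true =>
      exfalso
      have h3 := Nat.le_of_ble_eq_true hD
      have h4 : p ≤ p ^ i * y := by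
        rcases i with _ | i
        · rw [pow_zero, one_mul] at h1 ⊢
          exact hF y hy h1
        · rw [pow_succ]
          have h5 : 1 ≤ p ^ i * y := Nat.mul_pos (Nat.pow_pos hp) hy0
          calc p = 1 * p := (one_mul p).symm
            _ ≤ (p ^ i * y) * p := Nat.mul_le_mul_right p h5
            _ = p ^ i * p * y := by ring
      have h5 : d * p ≤ d * (p ^ i * y) := Nat.mul_le_mul_left d h4
      omega
    | false =>
      rw [hD, cond_false, Bool.and_eq_true, Bool.and_eq_true] at h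
      obtain ⟨⟨h3, h4⟩, h5⟩ := h
      rcases i with _ | i
      · rw [pow_zero, one_mul] at h1 h2 ⊢
        exact hg d h5 y hy h1 h2
      · have e : d * (p ^ (i + 1) * y) = (d * p) * (p ^ i * y) := by rw [pow_succ]; ring
        by_cases h6 : p ^ i * y = 1
        · rw [e, h6, mul_one]; exact h3
        · rw [e] at h2 ⊢
          exact ih (d * p) h4 i (by omega) y hy h6 h2

theorem prod_pos : ∀ {L : List (ℕ × ℕ)}, (∀ pa ∈ L, pa.1.Prime) → 0 < prod L
  | [], _ => Nat.one_pos
  | (p, a) :: L, h => Nat.mul_pos (Nat.pow_pos (h (p, a) List.mem_cons_self).pos)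
      (prod_pos fun pa hpa => h pa (List.mem_cons_of_mem _ hpa))

theorem le_of_sorted : ∀ {L : List (ℕ × ℕ)} {q : ℕ}, sorted q L = true → (∀ pa ∈ L, pa.1.Prime) →
    ∀ y, y ∣ prod L → y ≠ 1 → q ≤ y
  | [], q, _, _, y, hy, h1 => absurd (Nat.dvd_one.1 hy) h1
  | (p, a) :: L, q, h, hL, y, hy, h1 => by
    rw [sorted, Bool.and_eq_true] at h
    have hq := Nat.le_of_ble_eq_true h.1
    have hp := hL (p, a) List.mem_cons_self
    have hL' : ∀ pa ∈ L, pa.1.Prime := fun pa hpa => hL pa (List.mem_cons_of_mem _ hpa)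
    rw [prod] at hy
    obtain ⟨x, z, hx, hz, rfl⟩ := (Nat.dvd_mul).1 hy
    obtain ⟨i, -, rfl⟩ := (Nat.dvd_prime_pow hp).1 hx
    have hz0 : 0 < z := Nat.pos_of_dvd_of_pos hz (prod_pos hL')
    rcases i with _ | i
    · rw [pow_zero, one_mul] at h1 ⊢
      exact (Nat.le_of_succ_le hq).trans (le_of_sorted h.2 hL' z hz h1)
    · have h5 : 1 ≤ p ^ i * z := Nat.mul_pos (Nat.pow_pos hp.pos) hz0
      calc q ≤ p := Nat.le_of_succ_le hq
        _ = 1 * p := (one_mul p).symm
        _ ≤ (p ^ i * z) * p := Nat.mul_le_mul_right p h5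
        _ = p ^ (i + 1) * z := by rw [pow_succ]; ring

/-- **The enumeration.** -/
theorem go_spec {D : ℕ} {f : ℕ → Bool} : ∀ {L : List (ℕ × ℕ)} {q : ℕ}, sorted q L = true → (∀ pa ∈ L, pa.1.Prime) →
    ∀ {d : ℕ}, go D f L d = true → ∀ m, m ∣ prod L → m ≠ 1 → d * m < D → f (d * m) = true
  | [], q, _, _, d, _, m, hm, h1, _ => absurd (Nat.dvd_one.1 hm) h1
  | (p, a) :: L, q, hs, hL, d, h, m, hm, h1, h2 => by
    rw [sorted, Bool.and_eq_true] at hs
    have hp := hL (p, a) List.mem_cons_self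
    have hL' : ∀ pa ∈ L, pa.1.Prime := fun pa hpa => hL pa (List.mem_cons_of_mem _ hpa)
    rw [go] at h
    rw [prod] at hm
    obtain ⟨x, z, hx, hz, rfl⟩ := (Nat.dvd_mul).1 hm
    obtain ⟨i, hi, rfl⟩ := (Nat.dvd_prime_pow hp).1 hx
    exact up_spec hp.pos (fun d' h' y hy hy1 hy2 => go_spec hs.2 hL' h' y hy hy1 hy2)
      (fun y hy hy1 => le_of_sorted hs.2 hL' y hy hy1) (prod_pos hL') a d h i hi z hz h1 h2

/-! ### Residues -/

/-- the residue `d % r` is in the set given by the bits of `mask` -/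
def bit (mask r d : ℕ) : Bool := Nat.beq (Nat.mod (Nat.shiftRight mask (Nat.mod d r)) 2) 1

/-- the mask of a list -/
def maskOK (mask r : ℕ) (wl : List ℕ) : Bool :=
  (List.range r).all fun v => !(wl.contains v) || Nat.beq (Nat.mod (Nat.shiftRight mask v) 2) 1

theorem bit_of {mask r : ℕ} {wl : List ℕ} (hr : 0 < r) (h : maskOK mask r wl = true) {d : ℕ}
    (hd : wl.contains (d % r) = true) : bit mask r d = true := by
  have h1 := List.all_eq_true.1 h (d % r) (List.mem_range.2 (Nat.mod_lt d hr))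
  rw [hd] at h1
  exact h1

end Cfsg.Agent.H455.OreM.Enum
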